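import Mathlib

/-!
# Degree zero localization at a prime with elements of degrees `d` and `d + 1` outside it
-/

set_option autoImplicit false
set_option linter.style.haveILetI false
set_option backward.isDefEq.respectTransparency false
set_option backward.isDefEq.respectTransparency.types false
set_option maxHeartbeats 1000000

universe u

open HomogeneousLocalization DirectSum

namespace Groth.Agent.GrProjSharp

variable {A : Type u} [CommRing A] (𝒜 : ℕ → AddSubgroup A) [GradedRing 𝒜] (P : Ideal A) [P.IsPrime]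

/-- The homogeneous elements outside a prime. -/
def homCompl : Submonoid A where
  carrier := {a | a ∈ P.primeCompl ∧ SetLike.IsHomogeneousElem 𝒜 a}
  mul_mem' := fun {a b} ⟨ha, i, hi⟩ ⟨hb, j, hj⟩ => ⟨mul_mem ha hb, i + j, SetLike.mul_mem_graded hi hj⟩
  one_mem' := ⟨one_mem _, 0, SetLike.one_mem_graded 𝒜⟩

theorem homCompl_le : homCompl 𝒜 P ≤ P.primeCompl := fun _ h => h.1

theorem mul_component_eq_zero {u a : A} {n : ℕ} (ha : a ∈ 𝒜 n) (h : u * a = 0) (i : ℕ) :
    (decompose 𝒜 u i : A) * a = 0 := by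
  have := DirectSum.coe_decompose_mul_add_of_right_mem 𝒜 (a := u) (i := i) ha
  rw [h, decompose_zero] at this
  simpa using this.symm

theorem exists_component_not_mem {u : A} (hu : u ∉ P) : ∃ i, (decompose 𝒜 u i : A) ∉ P := by
  classical
  by_contra! h
  exact hu ((sum_support_decompose 𝒜 u) ▸ Ideal.sum_mem P fun i _ => h i)

/-- The two degree-zero localizations agree. -/
theorem mapId_bijective :
    Function.Bijective (HomogeneousLocalization.mapId 𝒜 (homCompl_le 𝒜 P) :
      HomogeneousLocalization 𝒜 (homCompl 𝒜 P) →+* HomogeneousLocalization.AtPrime 𝒜 P) := by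
  refine ⟨(injective_iff_map_eq_zero _).2 fun z hz => ?_, fun z => ?_⟩
  · obtain ⟨c, rfl⟩ := HomogeneousLocalization.mk_surjective z
    have h := congrArg HomogeneousLocalization.val hz
    rw [HomogeneousLocalization.val_zero] at h
    change Localization.mk (c.num : A) (⟨c.den, homCompl_le 𝒜 P c.den_mem⟩ : P.primeCompl) = 0 at h
    rw [Localization.mk_eq_mk', IsLocalization.mk'_eq_zero_iff] at h
    obtain ⟨⟨u, hu⟩, hu0⟩ := h
    obtain ⟨i, hi⟩ := exists_component_not_mem 𝒜 P hu
    refine HomogeneousLocalization.val_injective _ ?_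
    rw [HomogeneousLocalization.val_zero, HomogeneousLocalization.val_mk, Localization.mk_eq_mk',
      IsLocalization.mk'_eq_zero_iff]
    exact ⟨⟨_, hi, i, SetLike.coe_mem _⟩, mul_component_eq_zero 𝒜 c.num.2 hu0 i⟩
  · obtain ⟨c, rfl⟩ := HomogeneousLocalization.mk_surjective z
    exact ⟨.mk ⟨c.deg, c.num, c.den, c.den_mem, c.deg, c.den.2⟩, rfl⟩

/-- Homogeneous elements outside the prime of degree `d` and `d + 1` give a Laurent structure. -/
theorem flat_homLoc {d : ℕ} {f g : A} (hf : f ∈ 𝒜 d) (hfP : f ∉ P) (hg : g ∈ 𝒜 (d + 1)) (hgP : g ∉ P) :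
    Module.Flat (HomogeneousLocalization 𝒜 (homCompl 𝒜 P)) (Localization (homCompl 𝒜 P)) := by
  classical
  let S := homCompl 𝒜 P
  let B := Localization S
  let R := HomogeneousLocalization 𝒜 S
  let φ := algebraMap A B
  have hfS : f ∈ S := ⟨hfP, d, hf⟩
  have hgS : g ∈ S := ⟨hgP, d + 1, hg⟩
  obtain ⟨uf, huf⟩ : IsUnit (φ f) := IsLocalization.map_units B (⟨f, hfS⟩ : S)
  obtain ⟨ug, hug⟩ : IsUnit (φ g) := IsLocalization.map_units B (⟨g, hgS⟩ : S)
  let T : Bˣ := ug * uf⁻¹
  let b : ℤ → B := fun m => ((T ^ m : Bˣ) : B)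
  have hTf : (T : B) * φ f = φ g := by
    rw [← huf, ← hug, ← Units.val_mul, inv_mul_cancel_right]
  have hTn : ∀ n : ℕ, b n * φ f ^ n = φ g ^ n := fun n => by
    show ((T ^ (n : ℤ) : Bˣ) : B) * _ = _
    rw [zpow_natCast, Units.val_pow_eq_pow_val, ← mul_pow, hTf]
  have hbadd : ∀ m n, b (m + n) = b m * b n := fun m n => by
    show ((T ^ (m + n) : Bˣ) : B) = _
    rw [zpow_add, Units.val_mul]
  have hli : LinearIndependent R b := by
    rw [linearIndependent_iff']
    intro s c hsum
    obtain ⟨N, hN⟩ : ∃ N : ℕ, ∀ m ∈ s, 0 ≤ m + N := ⟨s.sup fun m => m.natAbs, fun m hm => by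
      have := Finset.le_sup (f := fun m : ℤ => m.natAbs) hm
      omega⟩
    choose w hw using fun m => HomogeneousLocalization.mk_surjective (c m)
    let n : ℤ → ℕ := fun m => (m + N).toNat
    let M : ℕ := s.sup n
    let D : A := ∏ m ∈ s, ((w m).den : A)
    let E : ℕ := ∑ m ∈ s, (w m).deg
    let a : ℤ → A := fun m => (w m).num * ∏ j ∈ s.erase m, ((w j).den : A)
    have ha : ∀ m ∈ s, a m ∈ 𝒜 E := fun m hm => by
      rw [show E = (w m).deg + ∑ j ∈ s.erase m, (w j).deg from (Finset.add_sum_erase s _ hm).symm]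
      exact SetLike.mul_mem_graded (A := 𝒜) (show ((w m).num : A) ∈ 𝒜 (w m).deg from (w m).num.2)
        (SetLike.prod_mem_graded 𝒜 (fun j => (w j).deg) (fun j => ((w j).den : A)) fun j _ => (w j).den.2)
    have hDc : ∀ m ∈ s, φ D * algebraMap R B (c m) = φ (a m) := fun m hm => by
      have h1 : φ ((w m).den : A) * algebraMap R B (c m) = φ ((w m).num : A) := by
        rw [← hw m]
        rw [HomogeneousLocalization.algebraMap_apply]
        rw [HomogeneousLocalization.val_mk, Localization.mk_eq_mk', mul_comm]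
        exact IsLocalization.mk'_spec B _ (⟨_, (w m).den_mem⟩ : S)
      show φ (∏ j ∈ s, ((w j).den : A)) * _ = φ (_ * _)
      rw [← Finset.mul_prod_erase s _ hm, map_mul, map_mul, mul_right_comm, h1]
    have h0 : φ (∑ m ∈ s, a m * g ^ n m * f ^ (M - n m)) = 0 := by
      have h1 : φ (∑ m ∈ s, a m * g ^ n m * f ^ (M - n m)) = φ f ^ M * φ D * b N * ∑ m ∈ s, c m • b m := by
        rw [map_sum, Finset.mul_sum]
        refine Finset.sum_congr rfl fun m hm => ?_
        have hnM : n m ≤ M := Finset.le_sup hm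
        have hbn : b (n m : ℤ) = b m * b N := by
          rw [← hbadd, show ((n m : ℕ) : ℤ) = m + N from Int.toNat_of_nonneg (hN m hm)]
        rw [map_mul, map_mul, map_pow, map_pow, ← hDc m hm, ← hTn, hbn, Algebra.smul_def]
        conv_rhs => rw [← Nat.sub_add_cancel hnM, pow_add]
        ring
      rw [h1, hsum, mul_zero]
    obtain ⟨⟨u, huP, δ, hδ⟩, hu⟩ := (IsLocalization.map_eq_zero_iff S B _).1 h0
    change u * _ = 0 at hu
    intro m hm
    have hdeg : ∀ j ∈ s, u * (a j * g ^ n j * f ^ (M - n j)) ∈ 𝒜 (δ + E + M * d + n j) := fun j hj => by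
      have hnM : n j ≤ M := Finset.le_sup hj
      have h := SetLike.mul_mem_graded hδ (SetLike.mul_mem_graded (SetLike.mul_mem_graded (ha j hj)
        (SetLike.pow_mem_graded (n j) hg)) (SetLike.pow_mem_graded (M - n j) hf))
      have e : δ + E + M * d + n j = δ + (E + n j • (d + 1) + (M - n j) • d) := by
        obtain ⟨r, hr⟩ := Nat.exists_eq_add_of_le hnM
        rw [hr, Nat.add_sub_cancel_left, smul_eq_mul, smul_eq_mul]
        ring
      rw [e]; exact h
    have hz : u * (a m * g ^ n m * f ^ (M - n m)) = 0 := by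
      have h := congrArg (GradedRing.proj 𝒜 (δ + E + M * d + n m)) hu
      simp only [Finset.mul_sum, map_sum, map_zero, GradedRing.proj_apply] at h
      rw [Finset.sum_eq_single m] at h
      · rwa [decompose_of_mem_same 𝒜 (hdeg m hm)] at h
      · intro j hj hjm
        refine decompose_of_mem_ne 𝒜 (hdeg j hj) fun he => hjm ?_
        have hn : n j = n m := by omega
        have e1 := hN j hj
        have e2 := hN m hm
        simp only [n] at hn
        omega
      · exact fun h => absurd hm h
    have h2 : φ (u * (a m * g ^ n m * f ^ (M - n m))) = 0 := by rw [hz, map_zero]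
    rw [map_mul, map_mul, map_mul, map_pow, map_pow, (IsLocalization.map_units B (⟨u, huP, δ, hδ⟩ : S)).mul_right_eq_zero,
      ← hug, ← huf, ← Units.val_pow_eq_pow_val, ← Units.val_pow_eq_pow_val, Units.mul_left_eq_zero,
      Units.mul_left_eq_zero, ← hDc m hm] at h2
    have hDS : D ∈ S := S.prod_mem fun j _ => (w j).den_mem
    have h3 : algebraMap R B (c m) = 0 := (IsLocalization.map_units B (⟨D, hDS⟩ : S)).mul_right_eq_zero.1 h2
    exact HomogeneousLocalization.val_injective _ (h3.trans (HomogeneousLocalization.val_zero (𝒜 := 𝒜) (x := S)).symm)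
  have hsp : ⊤ ≤ Submodule.span R (Set.range b) := by
    rintro z -
    obtain ⟨x, ⟨s, hsS⟩, rfl⟩ := IsLocalization.exists_mk'_eq S z
    obtain ⟨hsP, e, he⟩ := hsS
    rw [← sum_support_decompose 𝒜 x, IsLocalization.mk'_eq_mul_mk'_one, map_sum, Finset.sum_mul]
    refine Submodule.sum_mem _ fun i _ => ?_
    let xi : A := decompose 𝒜 x i
    have hxi : xi ∈ 𝒜 i := SetLike.coe_mem _
    have hnum : xi * g ^ e * f ^ i ∈ 𝒜 (i + e + (i + e) * d) := by
      have h := SetLike.mul_mem_graded (SetLike.mul_mem_graded hxi (SetLike.pow_mem_graded e hg))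
        (SetLike.pow_mem_graded i hf)
      rwa [show i + e • (d + 1) + i • d = i + e + (i + e) * d by simp only [smul_eq_mul]; ring] at h
    have hden : s * g ^ i * f ^ e ∈ 𝒜 (i + e + (i + e) * d) := by
      have h := SetLike.mul_mem_graded (SetLike.mul_mem_graded he (SetLike.pow_mem_graded i hg))
        (SetLike.pow_mem_graded e hf)
      rwa [show e + i • (d + 1) + e • d = i + e + (i + e) * d by simp only [smul_eq_mul]; ring] at h
    have hdS : s * g ^ i * f ^ e ∈ S := S.mul_mem (S.mul_mem ⟨hsP, e, he⟩ (S.pow_mem hgS i)) (S.pow_mem hfS e)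
    let c : R := .mk ⟨i + e + (i + e) * d, ⟨_, hnum⟩, ⟨_, hden⟩, hdS⟩
    have hc : IsLocalization.mk' B xi (⟨s, hsP, e, he⟩ : S) = c • b ((i : ℤ) - e) := by
      rw [IsLocalization.mk'_eq_iff_eq_mul, Algebra.smul_def]
      refine ((IsLocalization.map_units B (⟨_, hdS⟩ : S)).mul_left_inj).1 ?_
      have h1 : algebraMap R B c * φ (s * g ^ i * f ^ e) = φ (xi * g ^ e * f ^ i) := by
        show HomogeneousLocalization.val (𝒜 := 𝒜) (x := S) c * _ = _
        rw [HomogeneousLocalization.val_mk, Localization.mk_eq_mk']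
        exact IsLocalization.mk'_spec B _ (⟨_, hdS⟩ : S)
      have h2 : b ((i : ℤ) - e) * φ f ^ i * φ g ^ e = φ g ^ i * φ f ^ e := by
        have hb : b (i : ℤ) = b ((i : ℤ) - e) * b e := by rw [← hbadd, sub_add_cancel]
        rw [← hTn, ← hTn, hb]
        ring
      show φ xi * φ (s * g ^ i * f ^ e) = algebraMap R B c * b ((i : ℤ) - e) * φ s * φ (s * g ^ i * f ^ e)
      rw [show algebraMap R B c * b ((i : ℤ) - e) * φ s * φ (s * g ^ i * f ^ e) =
        (algebraMap R B c * φ (s * g ^ i * f ^ e)) * b ((i : ℤ) - e) * φ s by ring, h1]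
      simp only [map_mul, map_pow]
      rw [show φ xi * φ g ^ e * φ f ^ i * b ((i : ℤ) - e) * φ s =
        φ xi * φ s * (b ((i : ℤ) - e) * φ f ^ i * φ g ^ e) by ring, h2]
      ring
    rw [← IsLocalization.mk'_eq_mul_mk'_one]
    show IsLocalization.mk' B xi _ ∈ _
    rw [hc]
    exact Submodule.smul_mem _ _ (Submodule.subset_span ⟨_, rfl⟩)
  haveI : Module.Free R B := Module.Free.of_basis (Module.Basis.mk hli hsp)
  infer_instance

/-- The local ring at the prime is faithfully flat over its degree zero part. -/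
theorem faithfullyFlat_atPrime {d : ℕ} {f g : A} (hf : f ∈ 𝒜 d) (hfP : f ∉ P) (hg : g ∈ 𝒜 (d + 1)) (hgP : g ∉ P) :
    IsLocalHom (algebraMap (HomogeneousLocalization.AtPrime 𝒜 P) (Localization.AtPrime P)) ∧
      Module.FaithfullyFlat (HomogeneousLocalization.AtPrime 𝒜 P) (Localization.AtPrime P) := by
  let S := homCompl 𝒜 P
  let L := Localization.AtPrime P
  letI : Algebra (Localization S) L :=
    (IsLocalization.lift (g := algebraMap A L) (fun s : S =>
      IsLocalization.map_units L (⟨s, homCompl_le 𝒜 P s.2⟩ : P.primeCompl))).toAlgebra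
  haveI : IsScalarTower A (Localization S) L := IsScalarTower.of_algebraMap_eq fun x => (IsLocalization.lift_eq _ x).symm
  haveI := flat_homLoc 𝒜 P hf hfP hg hgP
  haveI : Module.Flat A L := IsLocalization.flat _ P.primeCompl
  haveI : Module.Flat (Localization S) L := (Module.flat_iff_of_isLocalization (Localization S) S L).2 inferInstance
  let e := RingEquiv.ofBijective _ (mapId_bijective 𝒜 P)
  have hcomp : algebraMap (HomogeneousLocalization.AtPrime 𝒜 P) L =
      ((algebraMap (Localization S) L).comp (algebraMap (HomogeneousLocalization 𝒜 S) (Localization S))).comp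
        e.symm.toRingHom := by
    refine RingHom.ext fun z => ?_
    obtain ⟨w, rfl⟩ := e.surjective z
    rw [RingHom.comp_apply, RingEquiv.toRingHom_eq_coe, RingHom.coe_coe, e.symm_apply_apply]
    obtain ⟨c, rfl⟩ := HomogeneousLocalization.mk_surjective w
    show Localization.mk (c.num : A) _ = algebraMap (Localization S) L (Localization.mk (c.num : A) _)
    rw [Localization.mk_eq_mk', Localization.mk_eq_mk', RingHom.algebraMap_toAlgebra, eq_comm, IsLocalization.lift_mk'_spec,
      mul_comm]
    exact (IsLocalization.mk'_spec L _ (⟨_, homCompl_le 𝒜 P c.den_mem⟩ : P.primeCompl)).symm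
  haveI hflat : Module.Flat (HomogeneousLocalization.AtPrime 𝒜 P) L := by
    rw [← RingHom.flat_algebraMap_iff, hcomp]
    exact (RingHom.Flat.of_bijective e.symm.bijective).comp
      ((RingHom.flat_algebraMap_iff.2 inferInstance).comp (RingHom.flat_algebraMap_iff.2 inferInstance))
  haveI hloc : IsLocalHom (algebraMap (HomogeneousLocalization.AtPrime 𝒜 P) L) :=
    ⟨fun z hz => (HomogeneousLocalization.isUnit_iff_isUnit_val (𝒜 := 𝒜) (𝔭 := P) z).1 hz⟩
  exact ⟨hloc, Module.FaithfullyFlat.of_flat_of_isLocalHom⟩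

end Groth.Agent.GrProjSharp
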